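import Mathlib.AlgebraicGeometry.IdealSheaf.Subscheme
import Mathlib.AlgebraicGeometry.Properties
import Mathlib.AlgebraicGeometry.Morphisms.UnderlyingMap

/-!
# The scheme-theoretic image of a reduced, resp. integral, scheme
-/

noncomputable section

universe u

open CategoryTheory AlgebraicGeometry TopologicalSpace Opposite

namespace Groth.Agent.Lib.SchImage.Integral

variable {X Y : Scheme.{u}} (f : X ⟶ Y) [QuasiCompact f]

theorem app_injective (U : f.image.Opens) : Function.Injective (f.toImage.app U) :=
  TopCat.Presheaf.app_injective_of_stalkFunctor_map_injective (F := f.image.sheaf) f.toImage.c U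
    fun x _ => f.stalkFunctor_toImage_injective x

theorem isReduced [IsReduced X] : IsReduced f.image :=
  ⟨fun U => isReduced_of_injective (f.toImage.app U).hom (app_injective f U)⟩

theorem irreducibleSpace [IrreducibleSpace X] : IrreducibleSpace f.image := by
  have hd : DenseRange f.toImage.base := f.toImage.denseRange
  haveI : PreirreducibleSpace f.image := ⟨by
    have h := (PreirreducibleSpace.isPreirreducible_univ (X := X)).image f.toImage.base
      f.toImage.continuous.continuousOn
    rw [Set.image_univ] at h
    have h2 := h.closure
    rwa [hd.closure_range] at h2⟩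
  exact ⟨⟨f.toImage.base (Classical.arbitrary X)⟩⟩

theorem isIntegral [IsIntegral X] : IsIntegral f.image := by
  haveI := isReduced f
  haveI := irreducibleSpace f
  exact isIntegral_of_irreducibleSpace_of_isReduced f.image

end Groth.Agent.Lib.SchImage.Integral
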